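import Groth.Agent.LimModLib.ObjLimit
import Groth.Agent.EtMil7.Presented
import Groth.Agent.QCoh.LocFree

/-!
Quasi-coherent modules along affine pinching squares.
-/

open CategoryTheory CategoryTheory.Limits AlgebraicGeometry TopologicalSpace Opposite
open scoped TensorProduct

universe u

namespace Groth.Agent.PinchMod7

variable {X X' : Scheme.{u}}

/-- sections of a pullback on compatible affines -/
theorem nonempty_pullback_sections (φ : X' ⟶ X) {M : X.Modules} (hM : Coh.IsQCoh M) {U : X.Opens}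
    (hU : IsAffineOpen U) {W : X'.Opens} (hW : IsAffineOpen W) (hle : W ≤ φ ⁻¹ᵁ U) :
    letI := (φ.appLE U W hle).hom.toAlgebra
    Nonempty (Γ((Scheme.Modules.pullback φ).obj M, W) ≃ₗ[Γ(X', W)] Γ(X', W) ⊗[Γ(X, U)] Γ(M, U)) := by
  obtain ⟨e⟩ := LimModLib.nonempty_restrict_iso φ hU hW hle hM
  letI := (φ.appLE U W hle).hom.toAlgebra
  let P := (ModuleCat.extendScalars.{_, _, u} (φ.appLE U W hle).hom).obj ((LimModLib.chartΓ hU).obj M)
  let e₁ : Γ((Scheme.Modules.pullback φ).obj M, W) ≃ₗ[Γ(X', W)] P :=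
    (QCoh.chartEquiv hW _).trans
      ((moduleSpecΓFunctor.mapIso e ≪≫ (tilde.toTildeΓNatIso.app P).symm).toLinearEquiv)
  let e₂ : Γ(X', W) ⊗[Γ(X, U)] Γ(M, U) ≃ₗ[Γ(X', W)]
      Γ(X', W) ⊗[Γ(X, U)] ((LimModLib.chartΓ hU).obj M : ModuleCat.{u} Γ(X, U)) :=
    LinearEquiv.baseChange _ _ _ _ (QCoh.chartEquiv hU M)
  exact ⟨e₁.trans e₂.symm⟩

/-- preimages of affine opens under an affine morphism cover -/
theorem isOpenCover_preimage (φ : X' ⟶ X) :
    IsOpenCover (fun V : X.affineOpens => φ ⁻¹ᵁ V.1) := by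
  refine top_le_iff.1 fun y _ => Opens.mem_iSup.2 ?_
  obtain ⟨_, ⟨V, hV, rfl⟩, hy, -⟩ :=
    X.isBasis_affineOpens.exists_subset_of_mem_open (Set.mem_univ (φ y)) isOpen_univ
  exact ⟨⟨V, hV⟩, hy⟩

theorem isFlat_of_cover {M : X.Modules} (hM : Coh.IsQCoh M) {ι : Type*} (U : ι → X.Opens) (hU : IsOpenCover U)
    (haff : ∀ i, IsAffineOpen (U i)) (h : ∀ i, Module.Flat Γ(X, U i) Γ(M, U i)) : FlatMod.IsFlat M := fun x => by
  obtain ⟨i, hx⟩ := Opens.mem_iSup.1 (hU.ge (Set.mem_univ x : x ∈ (⊤ : X.Opens)))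
  exact (QCoh.flat_sections_iff hM (haff i)).1 (h i) x hx

theorem subsingleton_of_isZero {M : X.Modules} (h : IsZero M) (U : X.Opens) : Subsingleton Γ(M, U) :=
  ⟨fun x y => by
    have e : (𝟙 M : M ⟶ M).app U = (0 : M ⟶ M).app U := by rw [h.eq_of_src (𝟙 M) 0]
    have hx := congr($e x)
    have hy := congr($e y)
    simp only [Scheme.Modules.Hom.id_app, Scheme.Modules.Hom.zero_app] at hx hy
    exact hx.trans hy.symm⟩

theorem isZero_of_subsingleton {M : X.Modules}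
    (h : ∀ U : X.affineOpens, Subsingleton Γ(M, U.1)) : IsZero M := by
  haveI : Mono (0 : M ⟶ M) := QCoh.mono_of_isBasis _ X.isBasis_affineOpens
    fun U hU x y _ => (h ⟨U, hU⟩).elim x y
  rw [IsZero.iff_id_eq_zero]
  exact (cancel_mono (0 : M ⟶ M)).1 (by simp)

section ring

variable {B' B A' : Type u} [CommRing B'] [CommRing B] [CommRing A'] [Algebra B' B] [Algebra B' A']

/-- descent along the square completed by `A' ⧸ ker (B' → B) A'` -/
theorem descend_ring (hsurj : Function.Surjective (algebraMap B' B))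
    (hinter : RingHom.ker (algebraMap B' A') ⊓ RingHom.ker (algebraMap B' B) = ⊥)
    (hmap : ∀ a ∈ Ideal.map (algebraMap B' A') (RingHom.ker (algebraMap B' B)),
      ∃ i ∈ RingHom.ker (algebraMap B' B), algebraMap B' A' i = a)
    (P : ∀ (R : Type u) [CommRing R] (N : Type u) [AddCommGroup N] [Module R N], Prop)
    (hdesc : ∀ (B' B A' A : Type u) [CommRing B'] [CommRing B] [CommRing A'] [CommRing A]
      [Algebra B' B] [Algebra B' A'] [Algebra B A] [Algebra A' A] [Algebra B' A]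
      [IsScalarTower B' B A] [IsScalarTower B' A' A], EtMil.IsFibreSquare B' B A' A →
      ∀ (L : Type u) [AddCommGroup L] [Module B' L], P B (B ⊗[B'] L) → P A' (A' ⊗[B'] L) → P B' L)
    (L : Type u) [AddCommGroup L] [Module B' L] (h1 : P B (B ⊗[B'] L)) (h2 : P A' (A' ⊗[B'] L)) : P B' L := by
  set I : Ideal A' := Ideal.map (algebraMap B' A') (RingHom.ker (algebraMap B' B)) with hI
  let γ : B' →+* A' ⧸ I := (Ideal.Quotient.mk I).comp (algebraMap B' A')
  have hγ : RingHom.ker (algebraMap B' B) ≤ RingHom.ker γ := fun x hx =>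
    Ideal.Quotient.eq_zero_iff_mem.2 (Ideal.mem_map_of_mem _ hx)
  let β : B →+* A' ⧸ I := RingHom.liftOfSurjective (algebraMap B' B) hsurj ⟨γ, hγ⟩
  letI : Algebra B (A' ⧸ I) := β.toAlgebra
  haveI : IsScalarTower B' B (A' ⧸ I) := IsScalarTower.of_algebraMap_eq fun x =>
    (RingHom.liftOfRightInverse_comp_apply _ _ _ ⟨γ, hγ⟩ x).symm
  refine hdesc B' B A' (A' ⧸ I) ⟨Ideal.Quotient.mk_surjective, fun b a' hba => ?_⟩ L h1 h2
  obtain ⟨b₀, rfl⟩ := hsurj b
  rw [← IsScalarTower.algebraMap_apply, IsScalarTower.algebraMap_apply B' A' (A' ⧸ I)] at hba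
  obtain ⟨j, hj, hj'⟩ := hmap _ (Ideal.Quotient.eq.1 hba)
  refine ⟨b₀ - j, ⟨by rw [map_sub, RingHom.mem_ker.1 hj, sub_zero], by rw [map_sub, hj', sub_sub_cancel]⟩, ?_⟩
  rintro y ⟨hy1, hy2⟩
  have : y - (b₀ - j) ∈ (⊥ : Ideal B') := hinter ▸ ⟨by
      show algebraMap B' A' (y - (b₀ - j)) = 0
      rw [map_sub, hy2, map_sub, hj', sub_sub_cancel, sub_self],
    by
      show algebraMap B' B (y - (b₀ - j)) = 0
      rw [map_sub, hy1, map_sub, RingHom.mem_ker.1 hj, sub_zero, sub_self]⟩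
  exact sub_eq_zero.1 (Ideal.mem_bot.1 this)

end ring

section square

variable {X Y Y' : Scheme.{u}} (f : X ⟶ Y) (u : Y' ⟶ Y) [IsAffineHom f] [IsClosedImmersion u]
  {G : Y.Modules}

/-- a module property which descends along Milnor squares descends along the pinching -/
theorem descend
    (hM : ∀ V ∈ Y.affineOpens,
      RingHom.ker (f.app V).hom ⊓ RingHom.ker (u.app V).hom = ⊥ ∧
      ∀ a ∈ Ideal.map (f.app V).hom (RingHom.ker (u.app V).hom),
        ∃ i ∈ RingHom.ker (u.app V).hom, (f.app V).hom i = a)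
    (hG : Coh.IsQCoh G)
    (P : ∀ (R : Type u) [CommRing R] (N : Type u) [AddCommGroup N] [Module R N], Prop)
    (hP : ∀ (R : Type u) [CommRing R] (N N' : Type u) [AddCommGroup N] [Module R N] [AddCommGroup N'] [Module R N'],
      (N ≃ₗ[R] N') → P R N → P R N')
    (hdesc : ∀ (B' B A' A : Type u) [CommRing B'] [CommRing B] [CommRing A'] [CommRing A]
      [Algebra B' B] [Algebra B' A'] [Algebra B A] [Algebra A' A] [Algebra B' A]
      [IsScalarTower B' B A] [IsScalarTower B' A' A], EtMil.IsFibreSquare B' B A' A →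
      ∀ (L : Type u) [AddCommGroup L] [Module B' L], P B (B ⊗[B'] L) → P A' (A' ⊗[B'] L) → P B' L)
    (h1 : ∀ V : Y.affineOpens, P Γ(Y', u ⁻¹ᵁ V.1) Γ((Scheme.Modules.pullback u).obj G, u ⁻¹ᵁ V.1))
    (h2 : ∀ V : Y.affineOpens, P Γ(X, f ⁻¹ᵁ V.1) Γ((Scheme.Modules.pullback f).obj G, f ⁻¹ᵁ V.1))
    (V : Y.affineOpens) : P Γ(Y, V.1) Γ(G, V.1) := by
  have hsurj : Function.Surjective (u.app V.1).hom := u.app_surjective V.1 V.2
  obtain ⟨hinter, hmap⟩ := hM V.1 V.2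
  obtain ⟨eu⟩ := nonempty_pullback_sections u hG V.2 (V.2.preimage u) le_rfl
  obtain ⟨ef⟩ := nonempty_pullback_sections f hG V.2 (V.2.preimage f) le_rfl
  letI : Algebra Γ(Y, V.1) Γ(Y', u ⁻¹ᵁ V.1) := (u.appLE V.1 (u ⁻¹ᵁ V.1) le_rfl).hom.toAlgebra
  letI : Algebra Γ(Y, V.1) Γ(X, f ⁻¹ᵁ V.1) := (f.appLE V.1 (f ⁻¹ᵁ V.1) le_rfl).hom.toAlgebra
  have hau : algebraMap Γ(Y, V.1) Γ(Y', u ⁻¹ᵁ V.1) = (u.app V.1).hom := by
    show (u.appLE V.1 _ _).hom = _
    rw [Scheme.Hom.app_eq_appLE]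
  have haf : algebraMap Γ(Y, V.1) Γ(X, f ⁻¹ᵁ V.1) = (f.app V.1).hom := by
    show (f.appLE V.1 _ _).hom = _
    rw [Scheme.Hom.app_eq_appLE]
  have hP1 := hP _ _ _ eu (h1 V)
  have hP2 := hP _ _ _ ef (h2 V)
  exact descend_ring (hau ▸ hsurj) (hau ▸ haf ▸ hinter) (hau ▸ haf ▸ hmap) P hdesc _ hP1 hP2

end square

section forward

theorem flat_pullback (φ : X' ⟶ X) [IsAffineHom φ] {M : X.Modules} (hM : Coh.IsQCoh M) (h : FlatMod.IsFlat M) :
    FlatMod.IsFlat ((Scheme.Modules.pullback φ).obj M) :=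
  isFlat_of_cover (QCoh.isQCoh_pullback φ hM) _ (isOpenCover_preimage φ) (fun V => V.2.preimage φ) fun V => by
    obtain ⟨e⟩ := nonempty_pullback_sections φ hM V.2 (V.2.preimage φ) le_rfl
    letI := (φ.appLE V.1 (φ ⁻¹ᵁ V.1) le_rfl).hom.toAlgebra
    haveI := (QCoh.isFlat_iff hM).1 h V
    exact Module.Flat.of_linearEquiv e

theorem isFT_pullback (φ : X' ⟶ X) [IsAffineHom φ] {M : X.Modules} (hM : Coh.IsQCoh M) (h : CohB1.IsFT M) :
    CohB1.IsFT ((Scheme.Modules.pullback φ).obj M) :=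
  QCoh.isFT_of_finite (QCoh.isQCoh_pullback φ hM) _ (isOpenCover_preimage φ) (fun V => V.2.preimage φ) fun V => by
    obtain ⟨e⟩ := nonempty_pullback_sections φ hM V.2 (V.2.preimage φ) le_rfl
    letI := (φ.appLE V.1 (φ ⁻¹ᵁ V.1) le_rfl).hom.toAlgebra
    haveI := (QCoh.isFT_iff hM).1 h V
    exact Module.Finite.equiv e.symm

theorem isFP_pullback (φ : X' ⟶ X) [IsAffineHom φ] {M : X.Modules} (hM : Coh.IsQCoh M) (h : CohB1.IsFP M) :
    CohB1.IsFP ((Scheme.Modules.pullback φ).obj M) :=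
  LimModLib.isFP_pullback φ hM h

end forward

end Groth.Agent.PinchMod7
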